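import Mathlib

/-!
Counting planes of a finite vector space over `ZMod p` through the pairs spanning them, and the
divisibility forced by a group which is transitive on planes and contains the scalars.
-/

set_option autoImplicit false
set_option linter.unusedSectionVars false

namespace CfsgLib.Solvable.SubspaceTransitive

open Submodule Module

variable (p : ℕ) [hp : Fact p.Prime] (V : Type*) [AddCommGroup V] [Module (ZMod p) V] [Finite V]

/-- Ordered independent pairs. -/
abbrev Pairs : Type _ := {x : V × V // x.1 ≠ 0 ∧ x.2 ∉ span (ZMod p) ({x.1} : Set V)}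

theorem card_pairs : Nat.card (Pairs p V) =
    (p ^ finrank (ZMod p) V - 1) * (p ^ finrank (ZMod p) V - p) := by
  classical
  have := Fintype.ofFinite V
  let e : Pairs p V ≃ Σ v : {v : V // v ≠ 0}, {w : V // w ∉ span (ZMod p) ({v.1} : Set V)} :=
    { toFun := fun x => ⟨⟨x.1.1, x.2.1⟩, ⟨x.1.2, x.2.2⟩⟩
      invFun := fun x => ⟨(x.1.1, x.2.1), x.1.2, x.2.2⟩
      left_inv := fun x => rfl
      right_inv := fun x => rfl }
  have hV : Nat.card V = p ^ finrank (ZMod p) V := by
    rw [Module.natCard_eq_pow_finrank (K := ZMod p), Nat.card_zmod]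
  have hin : ∀ v : {v : V // v ≠ 0}, Nat.card {w : V // w ∉ span (ZMod p) ({v.1} : Set V)} =
      p ^ finrank (ZMod p) V - p := by
    intro v
    have h1 : Nat.card ↥(span (ZMod p) ({v.1} : Set V)) = p := by
      rw [Module.natCard_eq_pow_finrank (K := ZMod p), Nat.card_zmod, finrank_span_singleton v.2, pow_one]
    have h2 := Set.ncard_compl (span (ZMod p) ({v.1} : Set V) : Set V)
    rw [hV, ← Nat.card_coe_set_eq, ← Nat.card_coe_set_eq] at h2
    refine h2.trans ?_
    rw [show Nat.card ↥(span (ZMod p) ({v.1} : Set V) : Set V) = p from h1]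
  have hout : Nat.card {v : V // v ≠ 0} = p ^ finrank (ZMod p) V - 1 := by
    have h2 := Set.ncard_compl ({0} : Set V)
    rw [hV, Set.ncard_singleton, ← Nat.card_coe_set_eq] at h2
    exact h2
  rw [Nat.card_congr e, Nat.card_sigma, Finset.sum_congr rfl (fun v _ => hin v), Finset.sum_const,
    Finset.card_univ, smul_eq_mul, ← Nat.card_eq_fintype_card, hout]

/-- The planes. -/
abbrev Planes : Type _ := {A : Submodule (ZMod p) V // finrank (ZMod p) A = 2}

theorem finrank_span_pair (x : Pairs p V) :
    finrank (ZMod p) ↥(span (ZMod p) ({x.1.1, x.1.2} : Set V)) = 2 := by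
  classical
  have hli : LinearIndependent (ZMod p) ![x.1.1, x.1.2] := by
    rw [LinearIndependent.pair_iff' x.2.1]
    exact fun a ha => x.2.2 (mem_span_singleton.2 ⟨a, ha⟩)
  have := finrank_span_eq_card hli
  rw [Matrix.range_cons, Matrix.range_cons, Matrix.range_empty, Set.union_empty, Set.union_singleton,
    Set.pair_comm] at this
  simpa using this

theorem card_planes_mul : Nat.card (Planes p V) * ((p ^ 2 - 1) * (p ^ 2 - p)) =
    (p ^ finrank (ZMod p) V - 1) * (p ^ finrank (ZMod p) V - p) := by
  classical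
  let φ : Pairs p V → Planes p V := fun x => ⟨_, finrank_span_pair p V x⟩
  have hfib : ∀ A : Planes p V, Nat.card {x : Pairs p V // φ x = A} = (p ^ 2 - 1) * (p ^ 2 - p) := by
    intro A
    let e : {x : Pairs p V // φ x = A} ≃ Pairs p ↥A.1 :=
      { toFun := fun x => ⟨(⟨x.1.1.1, (congrArg Subtype.val x.2).le (subset_span (by simp))⟩,
            ⟨x.1.1.2, (congrArg Subtype.val x.2).le (subset_span (by simp))⟩),
          fun h => x.1.2.1 (congrArg Subtype.val h), fun h => x.1.2.2 (by
            obtain ⟨c, hc⟩ := mem_span_singleton.1 h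
            exact mem_span_singleton.2 ⟨c, congrArg Subtype.val hc⟩)⟩
        invFun := fun y => ⟨⟨((y.1.1 : V), (y.1.2 : V)), fun h => y.2.1 (Subtype.ext h),
          fun h => y.2.2 (by
            obtain ⟨c, hc⟩ := mem_span_singleton.1 h
            exact mem_span_singleton.2 ⟨c, Subtype.ext hc⟩)⟩, by
            refine Subtype.ext (Submodule.eq_of_le_of_finrank_eq (span_le.2 ?_) ?_)
            · intro z hz
              rcases hz with rfl | rfl
              · exact y.1.1.2
              · exact y.1.2.2
            · rw [A.2]; exact finrank_span_pair p V _⟩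
        left_inv := fun x => Subtype.ext (Subtype.ext rfl)
        right_inv := fun y => Subtype.ext rfl }
    rw [Nat.card_congr e, card_pairs, A.2]
  have := Fintype.ofFinite V
  haveI : Finite (Submodule (ZMod p) V) := Finite.of_injective _ SetLike.coe_injective
  have := Fintype.ofFinite (Planes p V)
  rw [← card_pairs p V, ← Nat.card_congr (Equiv.sigmaFiberEquiv φ), Nat.card_sigma,
    Finset.sum_congr rfl (fun A _ => hfib A), Finset.sum_const, Finset.card_univ, smul_eq_mul,
    Nat.card_eq_fintype_card]

/-- A group transitive on planes containing the scalars has order divisible by `(p-1)` times the number of planes. -/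
theorem planes_dvd_card {G : Type*} [Group G] [Finite G] (ρ : G →* Module.End (ZMod p) V) (hinj : Function.Injective ρ)
    (hscal : ∀ c : (ZMod p)ˣ, ∃ g, ρ g = (c : ZMod p) • 1) (hn : 2 ≤ finrank (ZMod p) V)
    (hpl : ∀ A B : Submodule (ZMod p) V, finrank (ZMod p) A = 2 → finrank (ZMod p) B = 2 → ∃ g, A.map (ρ g) = B) :
    Nat.card (Planes p V) * (p - 1) ∣ Nat.card G := by
  classical
  haveI : Finite (Submodule (ZMod p) V) := Finite.of_injective _ SetLike.coe_injective
  have hbij : ∀ g, Function.Injective (ρ g) := fun g a b h => by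
    have h' := congrArg (ρ g⁻¹) h
    rwa [← Module.End.mul_apply, ← Module.End.mul_apply, ← map_mul, inv_mul_cancel, map_one] at h'
  letI : MulAction G (Planes p V) :=
    { smul := fun g A => ⟨A.1.map (ρ g), by
        exact (LinearEquiv.finrank_eq (Submodule.equivMapOfInjective _ (hbij g) A.1)).symm.trans A.2⟩
      one_smul := fun A => Subtype.ext (by show A.1.map (ρ 1) = A.1; rw [map_one]; exact Submodule.map_id _)
      mul_smul := fun g h A => Subtype.ext (by
        show A.1.map (ρ (g * h)) = (A.1.map (ρ h)).map (ρ g)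
        rw [map_mul]; exact Submodule.map_comp _ _ _) }
  haveI : MulAction.IsPretransitive G (Planes p V) := ⟨fun A B => by
    obtain ⟨g, hg⟩ := hpl A.1 B.1 A.2 B.2
    exact ⟨g, Subtype.ext hg⟩⟩
  obtain ⟨A⟩ : Nonempty (Planes p V) := by
    let b := Module.finBasis (ZMod p) V
    refine ⟨⟨_, finrank_span_pair p V ⟨(b ⟨0, by omega⟩, b ⟨1, by omega⟩), b.ne_zero _, fun h => ?_⟩⟩⟩
    obtain ⟨c, hc⟩ := mem_span_singleton.1 h
    have := congrArg (fun v => b.repr v ⟨1, by omega⟩) hc
    simp [Finsupp.single_apply, Fin.ext_iff] at this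
  choose s hs using hscal
  let scal : (ZMod p)ˣ → MulAction.stabilizer G A := fun c => ⟨s c, by
    refine MulAction.mem_stabilizer_iff.2 (Subtype.ext ?_)
    show A.1.map (ρ (s c)) = A.1
    rw [hs, Submodule.map_smul _ _ _ c.ne_zero]
    exact Submodule.map_id _⟩
  -- the scalars form a subgroup of the stabiliser
  let U : Subgroup (MulAction.stabilizer G A) :=
    { carrier := {g | ∃ c : (ZMod p)ˣ, ρ g.1 = (c : ZMod p) • 1}
      one_mem' := ⟨1, by simp⟩
      mul_mem' := by
        rintro a b ⟨c, hc⟩ ⟨d, hd⟩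
        exact ⟨c * d, by rw [Subgroup.coe_mul, map_mul, hc, hd, smul_mul_smul_comm, one_mul, Units.val_mul]⟩
      inv_mem' := by
        rintro a ⟨c, hc⟩
        refine ⟨c⁻¹, ?_⟩
        have h1 : ρ (a.1)⁻¹ * ρ a.1 = 1 := by rw [← map_mul, inv_mul_cancel, map_one]
        rw [hc, mul_smul_comm, mul_one] at h1
        show ρ (a.1)⁻¹ = _
        rw [← h1, smul_smul, ← Units.val_mul, inv_mul_cancel, Units.val_one, one_smul] }
  have hU : Nat.card U = p - 1 := by
    rw [← ZMod.card_units p, ← Nat.card_eq_fintype_card]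
    refine (Nat.card_congr (Equiv.ofBijective (fun c => (⟨scal c, c, hs c⟩ : U)) ⟨fun c d h => ?_, ?_⟩)).symm
    · have h' : ρ (s c) = ρ (s d) := congrArg (fun u : U => ρ u.1.1) h
      rw [hs, hs] at h'
      obtain ⟨v, hv⟩ : ∃ v : V, v ≠ 0 := by
        haveI : Nontrivial V := Module.nontrivial_of_finrank_pos (R := ZMod p) (by omega)
        exact exists_ne 0
      exact Units.ext (smul_left_injective _ hv (DFunLike.congr_fun h' v))
    · rintro ⟨⟨g, hg⟩, c, hc⟩
      exact ⟨c, Subtype.ext (Subtype.ext (hinj ((hs c).trans hc.symm)))⟩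
  rw [← MulAction.index_stabilizer_of_transitive G A, ← Subgroup.index_mul_card (MulAction.stabilizer G A)]
  exact Nat.mul_dvd_mul_left _ (hU ▸ Subgroup.card_subgroup_dvd_card U)

end CfsgLib.Solvable.SubspaceTransitive
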