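import Cfsg.Agent.Lib.Recognition.NearField.Huppert
import Cfsg.Agent.Lib.Solvable.SubspaceTransitive.Planes
import Cfsg.Agent.Lib.Solvable.Hall

/-!
Solvable linear groups over `ZMod p`, of dimension at least three, containing the scalars and transitive
on lines and on planes: they are semilinear, of dimension three, or five with `p = 2`.
-/

set_option autoImplicit false
set_option linter.style.haveILetI false

namespace CfsgLib.Solvable.SubspaceTransitive

open Submodule Module

variable (p n : ℕ) [hp : Fact p.Prime] {V : Type*} [AddCommGroup V] [Module (ZMod p) V] [Finite V]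
  {G : Type*} [Group G] [Finite G] (ρ : G →* Module.End (ZMod p) V)

/-- A semilinear group has order dividing `(p^n - 1) n`. -/
theorem card_dvd_of_semilinear (hn : n ≠ 0) (hinj : Function.Injective ρ) (e : V ≃+ GaloisField p n)
    (h : ∀ g : G, ∃ (a : GaloisField p n) (σ : GaloisField p n ≃+* GaloisField p n),
      ∀ v, e (ρ g v) = a * σ (e v)) :
    Nat.card G ∣ (p ^ n - 1) * n := by
  classical
  haveI : Fintype (GaloisField p n) := Fintype.ofFinite _
  choose a σ hσ using h
  have ha : ∀ g, a g ≠ 0 := by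
    intro g ha
    have hz : ∀ v, ρ g v = 0 := fun v => e.injective (by rw [hσ, ha, zero_mul, map_zero])
    have h1 : ρ g⁻¹ (ρ g (e.symm 1)) = e.symm 1 := by
      rw [← Module.End.mul_apply, ← map_mul, inv_mul_cancel, map_one]; rfl
    rw [hz, map_zero] at h1
    exact one_ne_zero (e.symm.injective ((h1.symm.trans e.symm.map_zero.symm)))
  have hmul : ∀ g k, a (g * k) = a g * σ g (a k) ∧ ∀ x, σ (g * k) x = σ g (σ k x) := by
    intro g k
    have key : ∀ x, a (g * k) * σ (g * k) x = a g * σ g (a k) * σ g (σ k x) := fun x => by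
      have h1 := hσ (g * k) (e.symm x)
      rw [map_mul, Module.End.mul_apply, hσ, hσ, e.apply_symm_apply, map_mul, ← mul_assoc] at h1
      exact h1.symm
    have h1 : a (g * k) = a g * σ g (a k) := by simpa using key 1
    exact ⟨h1, fun x => mul_left_cancel₀ (ha (g * k)) (by rw [key x, h1])⟩
  let Φ : G →* (GaloisField p n ≃ₐ[ZMod p] GaloisField p n) := MonoidHom.mk'
    (fun g => AlgEquiv.ofRingEquiv (f := σ g) fun r => congrFun (congrArg
      (fun F : ZMod p →+* GaloisField p n => (F : ZMod p → GaloisField p n))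
      (RingHom.ext_zmod ((σ g).toRingHom.comp (algebraMap (ZMod p) (GaloisField p n))) (algebraMap _ _))) r)
    fun g k => AlgEquiv.ext fun x => (hmul g k).2 x
  let ψ : Φ.ker →* (GaloisField p n)ˣ := MonoidHom.mk' (fun g => Units.mk0 (a g.1) (ha g.1)) fun g k => by
    refine Units.ext ?_
    show a (g.1 * k.1) = a g.1 * a k.1
    rw [(hmul g.1 k.1).1]
    congr 1
    exact DFunLike.congr_fun (MonoidHom.mem_ker.1 g.2) (a k.1)
  have hψ : Function.Injective ψ := by
    intro g k hgk
    have h1 : a g.1 = a k.1 := congrArg Units.val hgk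
    refine Subtype.ext (hinj (LinearMap.ext fun v => e.injective ?_))
    rw [hσ, hσ, h1]
    congr 1
    exact (DFunLike.congr_fun (MonoidHom.mem_ker.1 g.2) (e v)).trans
      (DFunLike.congr_fun (MonoidHom.mem_ker.1 k.2) (e v)).symm
  rw [← Subgroup.card_mul_index Φ.ker, Subgroup.index_ker]
  refine Nat.mul_dvd_mul ?_ ?_
  · have h1 := Subgroup.card_dvd_of_injective ψ hψ
    rwa [Nat.card_units, GaloisField.card p n hn] at h1
  · have h1 := Subgroup.card_subgroup_dvd_card Φ.range
    rwa [IsGalois.card_aut_eq_finrank, GaloisField.finrank _ hn] at h1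

/-- No solvable subgroup of `GL₄(3)` is transitive on the points and on the planes. -/
theorem not_four_three {V : Type*} [AddCommGroup V] [Module (ZMod 3) V] [Finite V]
    [Group.IsSolvable G] (ρ : G →* Module.End (ZMod 3) V) (hinj : Function.Injective ρ)
    (hV : finrank (ZMod 3) V = 4) (h5 : 5 ∣ Nat.card G) (h13 : 13 ∣ Nat.card G) : False := by
  classical
  haveI : Fact (Nat.Prime 3) := ⟨Nat.prime_three⟩
  haveI : Fact (Nat.Prime 5) := ⟨by norm_num⟩
  haveI : Fact (Nat.Prime 13) := ⟨by norm_num⟩
  have hVc : Nat.card V = 81 := by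
    rw [Module.natCard_eq_pow_finrank (K := ZMod 3), Nat.card_zmod, hV]; norm_num
  -- the order of `G` is a divisor of `|GL₄(3)|`
  have hGL : Nat.card G ∣ 24261120 := by
    let b : Basis (Fin 4) (ZMod 3) V := Module.finBasisOfFinrankEq (ZMod 3) V hV
    let τ : G →* GL (Fin 4) (ZMod 3) :=
      ((Units.map (LinearMap.toMatrixAlgEquiv b).toMulEquiv.toMonoidHom).comp ρ.toHomUnits)
    have hτ : Function.Injective τ := fun x y hxy =>
      hinj ((LinearMap.toMatrixAlgEquiv b).injective (congrArg Units.val hxy))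
    have h1 := Subgroup.card_dvd_of_injective τ hτ
    rw [Matrix.card_GL_field] at h1
    simpa [Fin.prod_univ_four, ZMod.card] using h1
  obtain ⟨k, hk⟩ : 65 ∣ Nat.card G := (Nat.Coprime.mul_dvd_of_dvd_of_dvd (by norm_num) h5 h13 : 5 * 13 ∣ Nat.card G)
  have hcop : Nat.Coprime 65 k := by
    have hkd : 65 * k ∣ 24261120 := hk ▸ hGL
    have h1 : k ∣ 373248 := by
      rw [show (24261120 : ℕ) = 65 * 373248 by norm_num] at hkd
      exact Nat.dvd_of_mul_dvd_mul_left (by norm_num) hkd
    exact Nat.Coprime.coprime_dvd_right h1 (by norm_num)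
  obtain ⟨H, hH⟩ := CfsgLib.Solvable.Hall.exists_card_eq (G := G) hk hcop
  obtain ⟨P⟩ : Nonempty (Sylow 13 H) := inferInstance
  have hPn : (P : Subgroup H).Normal := by
    have h1 : Nat.card (Sylow 13 H) ≡ 1 [MOD 13] := card_sylow_modEq_one 13 H
    have h2 : Nat.card (Sylow 13 H) ∣ 65 := by
      rw [P.card_eq_index_normalizer, ← hH]; exact Subgroup.index_dvd_card _
    have h3 : Nat.card (Sylow 13 H) = 1 := by
      have hle : Nat.card (Sylow 13 H) ≤ 65 := Nat.le_of_dvd (by norm_num) h2
      revert h1 h2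
      generalize Nat.card (Sylow 13 H) = c at hle ⊢
      intro h1 h2
      interval_cases c <;> simp [Nat.ModEq] at h1 h2 ⊢ <;> omega
    haveI := (Nat.card_eq_one_iff_unique.1 h3).1
    exact P.normal_of_subsingleton
  obtain ⟨b, hb⟩ := exists_prime_orderOf_dvd_card' (G := H) 13 (by rw [hH]; norm_num)
  obtain ⟨a, ha⟩ := exists_prime_orderOf_dvd_card' (G := H) 5 (by rw [hH]; norm_num)
  -- fixed spaces
  have hfix : ∀ (c : G) (r : ℕ) [Fact r.Prime], orderOf c = r →
      Nat.card V ≡ Nat.card {v : V // ρ c v = v} [MOD r] := by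
    intro c r hr hc
    letI : MulAction (Subgroup.zpowers c) V := MulAction.compHom V (ρ.comp (Subgroup.zpowers c).subtype)
    have hP : IsPGroup r (Subgroup.zpowers c) := IsPGroup.of_card (n := 1) (by rw [Nat.card_zpowers, hc, pow_one])
    refine (hP.card_modEq_card_fixedPoints V).trans ?_
    refine Nat.ModEq.symm (by
      rw [Nat.card_congr (Equiv.subtypeEquivRight fun v => ?_)]
      constructor
      · intro hv
        rintro ⟨d, hd⟩
        obtain ⟨i, rfl⟩ := mem_powers_iff_mem_zpowers.mpr hd
        show ρ (c ^ i) v = v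
        induction i with
        | zero => simp
        | succ i ih => rw [pow_succ, map_mul, Module.End.mul_apply, hv]; exact ih (by simp)
      · exact fun hv => hv ⟨c, Subgroup.mem_zpowers c⟩)
  let W : G → Submodule (ZMod 3) V := fun c => LinearMap.ker (ρ c - 1)
  have hW : ∀ c v, v ∈ W c ↔ ρ c v = v := fun c v => by
    simp only [W, LinearMap.mem_ker, LinearMap.sub_apply, sub_eq_zero, Module.End.one_apply]
  have hWc : ∀ c, Nat.card {v : V // ρ c v = v} = 3 ^ finrank (ZMod 3) (W c) := fun c => by
    rw [← Nat.card_congr (Equiv.subtypeEquivRight (hW c))]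
    rw [Module.natCard_eq_pow_finrank (K := ZMod 3) (V := W c), Nat.card_zmod]
  have hW4 : ∀ c, finrank (ZMod 3) (W c) ≤ 4 := fun c => hV ▸ Submodule.finrank_le _
  have hne : ∀ c : G, c ≠ 1 → finrank (ZMod 3) (W c) ≠ 4 := fun c hc e => hc (hinj (by
    rw [map_one]
    refine LinearMap.ext fun v => (hW c v).1 ?_
    have e' : W c = ⊤ := Submodule.eq_top_of_finrank_eq (e.trans hV.symm)
    rw [e']; trivial))
  set A : G := ((a : H) : G) with hA
  set B : G := ((b : H) : G) with hB
  have hA5 : orderOf A = 5 := by rw [hA, Subgroup.orderOf_coe]; exact ha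
  have hB13 : orderOf B = 13 := by rw [hB, Subgroup.orderOf_coe]; exact hb
  have hB1 : B ≠ 1 := fun e => by rw [e, orderOf_one] at hB13; omega
  have hA1 : A ≠ 1 := fun e => by rw [e, orderOf_one] at hA5; omega
  have hWB : finrank (ZMod 3) (W B) = 1 := by
    have h1 := hfix B 13 hB13
    rw [hVc, hWc] at h1
    have := hW4 B
    have := hne B hB1
    interval_cases hd : finrank (ZMod 3) (W B) <;> simp [Nat.ModEq] at h1 ⊢ <;> omega
  -- `A` preserves that line
  have hbP : b ∈ (P : Subgroup H) := by
    haveI := hPn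
    obtain ⟨Q, hQ⟩ := (IsPGroup.of_card (n := 1) (by rw [Nat.card_zpowers, hb, pow_one]) :
      IsPGroup 13 (Subgroup.zpowers b)).exists_le_sylow
    haveI := Sylow.unique_of_normal P hPn
    rw [Subsingleton.elim Q P] at hQ
    exact hQ (Subgroup.mem_zpowers b)
  have hPcard : Nat.card (P : Subgroup H) = 13 := by
    rw [P.card_eq_multiplicity, hH, show (65 : ℕ) = 5 * 13 by norm_num, Nat.factorization_mul (by norm_num) (by norm_num),
      Finsupp.add_apply, Nat.factorization_eq_zero_of_not_dvd (by norm_num), Nat.Prime.factorization_self (by norm_num)]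
    norm_num
  have hPz : (P : Subgroup H) = Subgroup.zpowers b :=
    (Subgroup.eq_of_le_of_card_ge (Subgroup.zpowers_le.2 hbP) (by rw [Nat.card_zpowers, hb, hPcard])).symm
  have hmem : ∀ v, v ∈ W B → ρ A v ∈ W B := by
    intro v hv
    have hc : a⁻¹ * b * a ∈ Subgroup.zpowers b := by
      rw [← hPz]; simpa using hPn.conj_mem b hbP a⁻¹
    obtain ⟨i, hi⟩ := mem_powers_iff_mem_zpowers.mpr hc
    have hi' : B * A = A * B ^ i := by
      have := congrArg (fun x : H => (x : G)) hi
      simp only [Subgroup.coe_mul, Subgroup.coe_inv, SubmonoidClass.coe_pow] at this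
      show (b : G) * (a : G) = (a : G) * (b : G) ^ i
      rw [this]; group
    rw [hW] at hv ⊢
    rw [← Module.End.mul_apply, ← map_mul, hi', map_mul, Module.End.mul_apply]
    congr 1
    have hpowv : ∀ j : ℕ, ρ (B ^ j) v = v := by
      intro j
      induction j with
      | zero => simp
      | succ j ih => rw [pow_succ, map_mul, Module.End.mul_apply, hv]; exact ih
    exact hpowv i
  -- so it fixes it
  obtain ⟨⟨v, hv⟩, hv0⟩ : ∃ v : W B, v ≠ 0 := by
    haveI : Nontrivial (W B) := Module.nontrivial_of_finrank_pos (R := ZMod 3) (by omega)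
    exact exists_ne 0
  obtain ⟨c, hc⟩ := exists_smul_eq_of_finrank_eq_one hWB hv0 ⟨ρ A v, hmem v hv⟩
  have hcv : ρ A v = c • v := (congrArg Subtype.val hc).symm
  have hpow : ∀ i : ℕ, ρ (A ^ i) v = c ^ i • v := by
    intro i
    induction i with
    | zero => simp
    | succ i ih => rw [pow_succ, map_mul, Module.End.mul_apply, hcv, map_smul, ih, smul_smul, pow_succ']
  have hv0' : v ≠ 0 := fun e => hv0 (Subtype.ext e)
  have hc5 : c ^ 5 = 1 := by
    have h1 := hpow 5
    rw [show A ^ 5 = 1 by rw [← hA5, pow_orderOf_eq_one], map_one, Module.End.one_apply] at h1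
    exact smul_left_injective _ hv0' (by simpa using h1.symm)
  have hc1 : c = 1 := by
    have hc0 : c ≠ 0 := fun e => by rw [e, zero_pow (by norm_num)] at hc5; exact zero_ne_one hc5
    have h2 : c ^ 2 = 1 := ZMod.pow_card_sub_one_eq_one hc0
    rw [← hc5, show (5 : ℕ) = 2 * 2 + 1 by norm_num, pow_succ, pow_mul, h2, one_pow, one_mul]
  have hWA : 1 ≤ finrank (ZMod 3) (W A) := by
    rw [Nat.one_le_iff_ne_zero]
    intro e
    rw [Submodule.finrank_eq_zero] at e
    have : v ∈ W A := (hW A v).2 (by rw [hcv, hc1, one_smul])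
    rw [e, Submodule.mem_bot] at this
    exact hv0' this
  have h1 := hfix A 5 hA5
  rw [hVc, hWc] at h1
  have := hW4 A
  have := hne A hA1
  interval_cases hd : finrank (ZMod 3) (W A) <;> simp [Nat.ModEq] at * <;> omega

/-- The classification: dimension three, or five over the field with two elements. -/
theorem main [Group.IsSolvable G] (hinj : Function.Injective ρ) (hdim : finrank (ZMod p) V = n) (hn : 3 ≤ n)
    (htr : ∀ v w : V, v ≠ 0 → w ≠ 0 → ∃ g, ρ g v = w)
    (hscal : ∀ c : (ZMod p)ˣ, ∃ g, ρ g = (c : ZMod p) • 1)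
    (hpl : ∀ A B : Submodule (ZMod p) V, finrank (ZMod p) A = 2 → finrank (ZMod p) B = 2 → ∃ g, A.map (ρ g) = B) :
    (n = 3 ∨ (n = 5 ∧ p = 2 ∧ 155 ∣ Nat.card G)) ∧ p ^ n - 1 ∣ Nat.card G ∧
      ∃ e : V ≃+ GaloisField p n, ∀ g : G, ∃ (a : GaloisField p n) (σ : GaloisField p n ≃+* GaloisField p n),
        ∀ v, e (ρ g v) = a * σ (e v) := by
  classical
  haveI : Nontrivial V := Module.nontrivial_of_finrank_pos (R := ZMod p) (by omega)
  have hVc : Nat.card V = p ^ n := by rw [Module.natCard_eq_pow_finrank (K := ZMod p), Nat.card_zmod, hdim]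
  have hpts : p ^ n - 1 ∣ Nat.card G := by
    rw [← hdim]; exact CfsgLib.Recognition.NearField.Huppert.dvd_card htr
  have hpl' := planes_dvd_card p V ρ hinj hscal (by omega) hpl
  have hΩ := card_planes_mul p V
  rw [hdim] at hΩ
  rcases CfsgLib.Recognition.NearField.Huppert.main hinj htr with ⟨F, _, _, e₀, he₀⟩ | hex
  · have hF : Fintype.card F = p ^ n := by
      rw [← Nat.card_eq_fintype_card, ← Nat.card_congr e₀.toEquiv, hVc]
    haveI : Fintype (GaloisField p n) := Fintype.ofFinite _
    let r : F ≃+* GaloisField p n := FiniteField.ringEquivOfCardEq (by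
      rw [hF, ← Nat.card_eq_fintype_card, GaloisField.card p n (by omega)])
    let e : V ≃+ GaloisField p n := e₀.trans r.toAddEquiv
    have he : ∀ g : G, ∃ (a : GaloisField p n) (σ : GaloisField p n ≃+* GaloisField p n),
        ∀ v, e (ρ g v) = a * σ (e v) := by
      intro g
      obtain ⟨a, σ, h⟩ := he₀ g
      refine ⟨r a, (r.symm.trans σ).trans r, fun v => ?_⟩
      show r (e₀ (ρ g v)) = r a * r (σ (r.symm (r (e₀ v))))
      rw [r.symm_apply_apply, h, map_mul]
    refine ⟨?_, hpts, e, he⟩
    have hcard := hpl'.trans (card_dvd_of_semilinear p n ρ (by omega) hinj e he)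
    set O := Nat.card (Planes p V) with hO
    have hp2 := hp.out.two_le
    have hkey : p ^ (n - 1) - 1 ∣ n * (p ^ 2 - 1) := by
      have h1 : O * (p - 1) * ((p ^ 2 - 1) * (p ^ 2 - p)) ∣ (p ^ n - 1) * n * ((p ^ 2 - 1) * (p ^ 2 - p)) :=
        Nat.mul_dvd_mul_right hcard _
      rw [show O * (p - 1) * ((p ^ 2 - 1) * (p ^ 2 - p)) = (p ^ n - 1) * (p ^ n - p) * (p - 1) by
        rw [← hΩ]; ring] at h1
      rw [show p ^ n - p = p * (p ^ (n - 1) - 1) by
          rw [Nat.mul_sub, mul_one, ← pow_succ', Nat.sub_add_cancel (by omega)],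
        show p ^ 2 - p = p * (p - 1) by rw [Nat.mul_sub, mul_one, pow_two],
        show (p ^ n - 1) * (p * (p ^ (n - 1) - 1)) * (p - 1) = (p ^ n - 1) * p * (p - 1) * (p ^ (n - 1) - 1) by ring,
        show (p ^ n - 1) * n * ((p ^ 2 - 1) * (p * (p - 1))) = (p ^ n - 1) * p * (p - 1) * (n * (p ^ 2 - 1)) by ring] at h1
      exact Nat.dvd_of_mul_dvd_mul_left (Nat.mul_pos (Nat.mul_pos
        (Nat.sub_pos_of_lt (Nat.one_lt_pow (by omega) hp.out.one_lt)) hp.out.pos) (by omega)) h1
    have hle : p ^ (n - 1) - 1 ≤ n * (p ^ 2 - 1) :=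
      Nat.le_of_dvd (Nat.mul_pos (by omega) (Nat.sub_pos_of_lt (Nat.one_lt_pow two_ne_zero hp.out.one_lt))) hkey
    have hp4 : 4 ≤ p ^ 2 := Nat.pow_le_pow_left hp2 2
    rcases Nat.lt_or_ge n 6 with hn6 | hn6
    · interval_cases n
      · exact Or.inl rfl
      · exfalso
        have h4 : p ≤ 4 := by
          by_contra hgt
          have h3 : p ^ (4 - 1) = p * p ^ 2 := by ring
          rw [h3] at hle
          have := Nat.mul_le_mul_right (p ^ 2) (show 5 ≤ p by omega)
          omega
        rcases (show p = 2 ∨ p = 3 ∨ p = 4 by omega) with rfl | rfl | rfl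
        · norm_num at hkey
        · norm_num at hkey
        · exact absurd hp.out (by norm_num)
      · refine Or.inr ?_
        have h2 : p = 2 := by
          by_contra hne
          have h9 : 9 ≤ p ^ 2 := Nat.pow_le_pow_left (show 3 ≤ p by omega) 2
          have h4 : p ^ (5 - 1) = p ^ 2 * p ^ 2 := by ring
          rw [h4] at hle
          have := Nat.mul_le_mul_right (p ^ 2) h9
          omega
        subst h2
        refine ⟨rfl, rfl, ?_⟩
        norm_num at hΩ hpl'
        rw [show O = 155 by omega] at hpl'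
        simpa using hpl'
    · exfalso
      have h1 : ∀ m, 3 ≤ m → m + 3 < p ^ m := by
        intro m hm
        induction m, hm using Nat.le_induction with
        | base => have := Nat.pow_le_pow_left hp2 3; omega
        | succ m _ ih =>
          rw [pow_succ']
          have := Nat.mul_le_mul_right (p ^ m) hp2
          omega
      have h2 := h1 (n - 3) (by omega)
      have h3 : p ^ (n - 1) = p ^ (n - 3) * p ^ 2 := by rw [← pow_add]; congr 1; omega
      rw [h3] at hle
      have h5 : (n + 1) * p ^ 2 ≤ p ^ (n - 3) * p ^ 2 := Nat.mul_le_mul_right _ (by omega)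
      rw [add_mul, one_mul] at h5
      rw [Nat.mul_sub, mul_one] at hle
      omega
  · exfalso
    rw [hVc] at hex
    have h34 : p = 3 ∧ n = 4 := by
      have hsq : ∀ q : ℕ, q.Prime → p ^ n = q ^ 2 → False := fun q hq h => by
        have := congrArg (fun x => x.factorization q) h
        by_cases hpq : p = q
        · subst hpq
          simp [Nat.Prime.factorization_pow hq] at this
          omega
        · exact hpq ((Nat.prime_dvd_prime_iff_eq hp.out hq).1
            (hp.out.dvd_of_dvd_pow (h ▸ dvd_pow_self p (by omega : n ≠ 0))))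
      rcases hex with h | h | h | h | h | h
      · exact (hsq 3 (by norm_num) (by simpa using h)).elim
      · exact (hsq 5 (by norm_num) (by simpa using h)).elim
      · exact (hsq 7 (by norm_num) (by simpa using h)).elim
      · exact (hsq 11 (by norm_num) (by simpa using h)).elim
      · exact (hsq 23 (by norm_num) (by simpa using h)).elim
      · have h' : p ^ n = 3 ^ 4 := by simpa using h
        have hp3 : p = 3 := (Nat.prime_dvd_prime_iff_eq hp.out Nat.prime_three).1
          (hp.out.dvd_of_dvd_pow (h' ▸ dvd_pow_self p (by omega : n ≠ 0)))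
        subst hp3
        exact ⟨rfl, Nat.pow_right_injective (by norm_num : 2 ≤ 3) h'⟩
    obtain ⟨rfl, rfl⟩ := h34
    norm_num at hΩ hpl' hpts
    rw [show Nat.card (Planes 3 V) = 130 by omega] at hpl'
    exact not_four_three ρ hinj hdim ((show 5 ∣ 80 by norm_num).trans hpts)
      ((show 13 ∣ 130 * 2 by norm_num).trans hpl')

end CfsgLib.Solvable.SubspaceTransitive
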